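import Cfsg.Agent.H74.RootExt.TwGens
import Cfsg.Agent.H74.RootExt.E6Lower
import Cfsg.Agent.H56.TwAut.E6

/-!
A stem extension of `²E₆(2)` with kernel of odd order has kernel of order dividing three.
-/

set_option autoImplicit false

namespace Cfsg.Agent.H56.EMult

open Cfsg.Lie Cfsg.Agent.H37 Cfsg.Agent.H37.Twist Cfsg.Agent.H37.Twist.E6 Cfsg.Agent.H56.TwAut

universe u

variable {K : Type u} [Field K] [Fintype K]

theorem card_ker_dvd_three_model {φ : K →+* K} (hφ : ∀ t, φ t = t ^ 2)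
    (hK : Fintype.card K = 2 ^ 2) {Γ : Type u} [Group Γ] [Finite Γ]
    {σ : Γ →* ↥(model hφ hK).T} (hσ : Cfsg.IsStemExtension σ) (hodd : ¬ 2 ∣ Nat.card σ.ker) :
    Nat.card σ.ker ∣ 3 := by
  let P := H56.TwAut.E6.spec hφ hK
  have hA := H74.RootExt.Tw.sbase P
  have : CharP K 2 := charP_of_card_eq_prime_pow hK
  have hchar : ringChar K = 2 := ringChar.eq K 2
  let X : H74.RootExt.PExt (ringChar K) Γ ↥(model hφ hK).T :=
    { proj := σ, surj := hσ.1, central := hσ.2.1, hp := hA.hp, fin := inferInstance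
      coprime := hchar.symm ▸ hodd }
  have hdvd : Nat.card σ.ker * Nat.card ↥(model hφ hK).tw.H ∣ ∏ i, (Nat.card (P.k i) - 1) :=
    H74.RootExt.Bruhat.card_ker_mul_dvd hA (H74.RootExt.Tw.gens P) X hσ.2.2
  have hH : Nat.gcd 3 (2 + 1) * Nat.card ↥(model hφ hK).tw.H = (2 - 1) ^ 4 * (2 + 1) ^ 2 := by
    rw [(model hφ hK).tw_H, ← (model hφ hK).card_inf_eq]
    exact Twist.E6.card_H hφ hK
  have hC : ∏ i : Fin 4, (Nat.card (P.k i) - 1) = 9 := by
    rw [Fin.prod_univ_four]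
    show (Nat.card (⊤ : Subfield K) - 1) * (Nat.card (⊤ : Subfield K) - 1) *
      (Nat.card (RingHom.eqLocusField φ (RingHom.id K)) - 1) *
      (Nat.card (RingHom.eqLocusField φ (RingHom.id K)) - 1) = _
    rw [H56.TwAut.E6.card_top, H56.TwAut.E6.card_fix hφ hK, Nat.card_eq_fintype_card, hK]
    norm_num
  replace hdvd : Nat.card σ.ker * Nat.card ↥(model hφ hK).tw.H ∣ 9 :=
    hdvd.trans (dvd_of_eq hC)
  have hH3 : Nat.card ↥(model hφ hK).tw.H = 3 := by
    norm_num at hH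
    omega
  rw [hH3] at hdvd
  exact Nat.dvd_of_mul_dvd_mul_right (by norm_num : 0 < 3) hdvd

/-- A stem extension of `²E₆(2)` with kernel of odd order has kernel of order dividing three. -/
theorem card_ker_dvd_three (hK : Fintype.card K = 4) {Γ : Type u} [Group Γ] [Finite Γ]
    {σ : Γ →* ↥(twistedE6 K 2)} (hσ : Cfsg.IsStemExtension σ) (hodd : ¬ 2 ∣ Nat.card σ.ker) :
    Nat.card σ.ker ∣ 3 := by
  obtain ⟨φ, hφ⟩ := exists_powHom (q := 2) Nat.prime_two.isPrimePow (m := 2) hK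
  exact card_ker_dvd_three_model hφ hK hσ hodd

end Cfsg.Agent.H56.EMult
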