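import Cfsg.Agent.H74.SchurPerfect
import Mathlib.GroupTheory.Perm.Cycle.Type
import Mathlib.Data.ZMod.Basic

/-!
Reduction of the bound `3 × 2 × 2` on the kernels of stem extensions to two special cases, by means
of two commuting pairs.
-/

set_option autoImplicit false

namespace Cfsg.Agent.H56.EMult

open Subgroup
open scoped commutatorElement

universe u v w

variable {G : Type u} [Group G]

/-- A stem extension divided by a part of its kernel. -/
theorem exists_stem_quotient {Γ : Type v} [Group Γ] [Finite Γ] {σ : Γ →* G}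
    (hσ : Cfsg.IsStemExtension σ) {M : Subgroup Γ} (hM : M ≤ σ.ker) :
    ∃ (Δ : Type v) (_ : Group Δ) (_ : Finite Δ) (τ : Δ →* G) (q : Γ →* Δ),
      Cfsg.IsStemExtension τ ∧ Function.Surjective q ∧ q.ker = M ∧ (∀ a, τ (q a) = σ a) ∧
        τ.ker = σ.ker.map q := by
  have hcM : M ≤ center Γ := hM.trans hσ.2.1
  have : M.Normal :=
    ⟨fun a ha g => by rw [mem_center_iff.1 (hcM ha) g, mul_inv_cancel_right]; exact ha⟩
  let τ : Γ ⧸ M →* G := QuotientGroup.lift M σ hM
  have hτ : ∀ a, τ (QuotientGroup.mk' M a) = σ a := fun a => rfl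
  have hk : τ.ker = σ.ker.map (QuotientGroup.mk' M) := by
    refine le_antisymm (fun z hz => ?_) ?_
    · obtain ⟨a, rfl⟩ := QuotientGroup.mk'_surjective M z
      exact ⟨a, hz, rfl⟩
    · rintro _ ⟨a, ha, rfl⟩
      exact ha
  refine ⟨Γ ⧸ M, inferInstance, inferInstance, τ, QuotientGroup.mk' M, ⟨?_, ?_, ?_⟩,
    QuotientGroup.mk'_surjective M, QuotientGroup.ker_mk' M, hτ, hk⟩
  · intro g
    obtain ⟨a, rfl⟩ := hσ.1 g
    exact ⟨_, hτ a⟩
  · rw [hk]
    rintro _ ⟨a, ha, rfl⟩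
    rw [mem_center_iff]
    intro z
    obtain ⟨b, rfl⟩ := QuotientGroup.mk'_surjective M z
    rw [← map_mul, ← map_mul, mem_center_iff.1 (hσ.2.1 ha) b]
  · rw [hk, ← H74.Schur.map_commutator_of_surjective _ (QuotientGroup.mk'_surjective M)]
    exact map_mono hσ.2.2

/-- Lifts of a commuting pair have a well defined commutator. -/
theorem commutator_lifts_eq {Γ : Type v} [Group Γ] {σ : Γ →* G} (hc : σ.ker ≤ center Γ)
    {X Y X' Y' : Γ} (hX : σ X' = σ X) (hY : σ Y' = σ Y) : ⁅X', Y'⁆ = ⁅X, Y⁆ := by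
  have h : ∀ {a b : Γ}, σ b = σ a → a⁻¹ * b ∈ center Γ := fun {a b} e =>
    hc (by rw [MonoidHom.mem_ker, map_mul, map_inv, e, inv_mul_cancel])
  have e := H74.Schur.commutatorElement_mul_central (a := X) (b := Y) (h hX) (h hY)
  rwa [mul_inv_cancel_left, mul_inv_cancel_left, ← commutatorElement_def,
    ← commutatorElement_def] at e

/-- The homomorphism from `ZMod n` sending `1` to an element of exponent `n`. -/
noncomputable def zmodHom {A : Type v} [Group A] (n : ℕ) (z : A) (h : z ^ n = 1) :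
    Multiplicative (ZMod n) →* A :=
  (ZMod.lift n ⟨zmultiplesHom (Additive A) (Additive.ofMul z), by
    simp [zmultiplesHom, ← ofMul_pow, h]⟩).toMultiplicativeLeft

theorem zmodHom_apply {A : Type v} [Group A] (n : ℕ) (z : A) (h : z ^ n = 1) (k : ℤ) :
    zmodHom n z h (Multiplicative.ofAdd (k : ZMod n)) = z ^ k := by
  simp [zmodHom, zmultiplesHom, ← ofMul_zpow]

/-- An abelian group generated by elements of orders dividing `3`, `2` and `2`. -/
theorem exists_surjective_three_two_two {A : Type v} [CommGroup A] {t d e : A} (ht : t ^ 3 = 1)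
    (hd : d ^ 2 = 1) (he : e ^ 2 = 1)
    (hgen : ∀ a : A, ∃ i j k : ℤ, t ^ i * (d ^ j * e ^ k) = a) :
    ∃ f : Multiplicative (ZMod 3 × ZMod 2 × ZMod 2) →* A, Function.Surjective f := by
  refine ⟨((zmodHom 3 t ht).coprod (((zmodHom 2 d hd).coprod (zmodHom 2 e he)).comp
    (MulEquiv.prodMultiplicative (ZMod 2) (ZMod 2)).toMonoidHom)).comp
      (MulEquiv.prodMultiplicative (ZMod 3) (ZMod 2 × ZMod 2)).toMonoidHom, fun a => ?_⟩
  obtain ⟨i, j, k, rfl⟩ := hgen a
  refine ⟨Multiplicative.ofAdd ((i : ZMod 3), ((j : ZMod 2), (k : ZMod 2))), ?_⟩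
  show zmodHom 3 t ht (Multiplicative.ofAdd (i : ZMod 3)) *
    (zmodHom 2 d hd (Multiplicative.ofAdd (j : ZMod 2)) *
      zmodHom 2 e he (Multiplicative.ofAdd (k : ZMod 2))) = _
  rw [zmodHom_apply, zmodHom_apply, zmodHom_apply]

/-- The kernel of every stem extension is an image of `3 × 2 × 2` if the commutators of two pairs
have sixth power one, an elementary abelian kernel on which they vanish is trivial and an odd kernel
has order dividing three. -/
theorem exists_surjection_of (x y : Fin 2 → G) (hxy : ∀ k, Commute (x k) (y k))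
    (hc6 : ∀ (Γ : Type v) [Group Γ] [Finite Γ] (σ : Γ →* G), Cfsg.IsStemExtension σ →
      ∀ k X Y, σ X = x k → σ Y = y k → ⁅X, Y⁆ ^ 6 = 1)
    (hmain : ∀ (Γ : Type v) [Group Γ] [Finite Γ] (σ : Γ →* G), Cfsg.IsStemExtension σ →
      (∀ a ∈ σ.ker, a * a = 1) → (∀ k X Y, σ X = x k → σ Y = y k → ⁅X, Y⁆ = 1) → σ.ker = ⊥)
    (hodd : ∀ (Γ : Type v) [Group Γ] [Finite Γ] (σ : Γ →* G), Cfsg.IsStemExtension σ →
      ¬ 2 ∣ Nat.card σ.ker → Nat.card σ.ker ∣ 3)
    (Γ : Type v) [Group Γ] [Finite Γ] (σ : Γ →* G) (hσ : Cfsg.IsStemExtension σ) :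
    ∃ f : Multiplicative (ZMod 3 × ZMod 2 × ZMod 2) →* σ.ker, Function.Surjective f := by
  have hcen := hσ.2.1
  let _ : CommGroup σ.ker :=
    { (inferInstance : Group σ.ker) with
      mul_comm := fun a b => Subtype.ext (mem_center_iff.1 (hcen b.2) a.1) }
  choose X hX using fun k => hσ.1 (x k)
  choose Y hY using fun k => hσ.1 (y k)
  have hck : ∀ k, ⁅X k, Y k⁆ ∈ σ.ker := fun k => by
    rw [MonoidHom.mem_ker, map_commutatorElement, hX, hY, commutatorElement_eq_one_iff_commute]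
    exact hxy k
  let c : Fin 2 → σ.ker := fun k => ⟨_, hck k⟩
  -- the kernel is generated by its squares and the two commutators
  let S : Set σ.ker := Set.range c ∪ Set.range (fun a => a * a)
  have hK : closure S = ⊤ := by
    obtain ⟨Δ, _, _, τ, q, hτ, hq, hqk, hτq, hτk⟩ :=
      exists_stem_quotient hσ (M := (closure S).map σ.ker.subtype) (map_subtype_le _)
    have h0 : τ.ker = ⊥ := by
      refine hmain Δ τ hτ (fun z hz => ?_) fun k X' Y' hX' hY' => ?_
      · rw [hτk] at hz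
        obtain ⟨a, ha, rfl⟩ := hz
        rw [← map_mul, ← MonoidHom.mem_ker, hqk]
        exact ⟨⟨a, ha⟩ * ⟨a, ha⟩, subset_closure (Or.inr ⟨⟨a, ha⟩, rfl⟩), rfl⟩
      · obtain ⟨X'', rfl⟩ := hq X'
        obtain ⟨Y'', rfl⟩ := hq Y'
        rw [hτq] at hX' hY'
        rw [← map_commutatorElement, ← MonoidHom.mem_ker, hqk,
          commutator_lifts_eq hcen (hX'.trans (hX k).symm) (hY'.trans (hY k).symm)]
        exact ⟨c k, subset_closure (Or.inl ⟨k, rfl⟩), rfl⟩
    rw [eq_top_iff]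
    intro a _
    have h : q a ∈ τ.ker := by rw [hτk]; exact mem_map_of_mem q a.2
    rw [h0, mem_bot, ← MonoidHom.mem_ker, hqk] at h
    obtain ⟨b, hb, hba⟩ := h
    exact Subtype.ext hba ▸ hb
  have hc6' : ∀ k, c k ^ 6 = 1 := fun k => Subtype.ext (hc6 Γ σ hσ k _ _ (hX k) (hY k))
  set d := c 0 ^ 3
  set e := c 1 ^ 3
  have hd : d ^ 2 = 1 := by rw [← pow_mul]; exact hc6' 0
  have he : e ^ 2 = 1 := by rw [← pow_mul]; exact hc6' 1
  let N : Subgroup σ.ker := closure {d, e}
  have hN2 : ∀ n ∈ N, n ^ 2 = 1 := by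
    intro n hn
    obtain ⟨i, j, rfl⟩ := mem_closure_pair.1 hn
    rw [mul_pow, ← zpow_natCast (d ^ i), ← zpow_natCast (e ^ j), ← zpow_mul, ← zpow_mul,
      mul_comm i, mul_comm j, zpow_mul, zpow_mul]
    simp [hd, he]
  have hc3 : ∀ k, c k ^ 3 ∈ N := fun k => by
    fin_cases k
    · exact subset_closure (Or.inl rfl)
    · exact subset_closure (Or.inr rfl)
  -- the quotient by the two involutions is odd
  have hsq : Function.Surjective (powMonoidHom 2 : σ.ker ⧸ N →* σ.ker ⧸ N) := by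
    rw [← MonoidHom.range_eq_top, eq_top_iff]
    intro z _
    obtain ⟨a, rfl⟩ := QuotientGroup.mk'_surjective N z
    suffices h : closure S ≤ (powMonoidHom 2 : σ.ker ⧸ N →* σ.ker ⧸ N).range.comap
        (QuotientGroup.mk' N) from h (hK ▸ mem_top a)
    rw [closure_le]
    rintro _ (⟨k, rfl⟩ | ⟨b, rfl⟩)
    · refine ⟨QuotientGroup.mk' N (c k ^ 2), ?_⟩
      have h : QuotientGroup.mk' N (c k ^ 3) = 1 := (QuotientGroup.eq_one_iff _).2 (hc3 k)
      rw [powMonoidHom_apply, ← map_pow, ← pow_mul, pow_succ, map_mul, h, one_mul]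
    · refine ⟨QuotientGroup.mk' N b, ?_⟩
      rw [powMonoidHom_apply, pow_two, ← map_mul]
  have hcard : ¬ 2 ∣ Nat.card (σ.ker ⧸ N) := by
    intro h
    have : Fact (Nat.Prime 2) := ⟨Nat.prime_two⟩
    obtain ⟨z, hz⟩ := exists_prime_orderOf_dvd_card' 2 h
    have h2 : z ^ 2 = 1 ^ 2 := by rw [one_pow, ← hz]; exact pow_orderOf_eq_one z
    have := (Finite.injective_iff_surjective.2 hsq) h2
    rw [this, orderOf_one] at hz
    omega
  have h3 : Nat.card (σ.ker ⧸ N) ∣ 3 := by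
    obtain ⟨Δ, _, _, τ, q, hτ, hq, hqk, hτq, hτk⟩ :=
      exists_stem_quotient hσ (M := N.map σ.ker.subtype) (map_subtype_le _)
    let π : σ.ker →* τ.ker := MonoidHom.mk'
      (fun a => ⟨q a, by rw [hτk]; exact mem_map_of_mem q a.2⟩)
      fun a b => Subtype.ext (map_mul q _ _)
    have hπ : Function.Surjective π := fun z => by
      obtain ⟨a, ha, hz⟩ := (hτk ▸ z.2 : (z : Δ) ∈ σ.ker.map q)
      exact ⟨⟨a, ha⟩, Subtype.ext hz⟩
    have hπk : π.ker = N := by
      ext a
      constructor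
      · intro h
        have h' : (a : Γ) ∈ q.ker := congrArg Subtype.val (MonoidHom.mem_ker.1 h)
        rw [hqk] at h'
        obtain ⟨b, hb, hba⟩ := h'
        exact Subtype.ext hba ▸ hb
      · intro h
        have h' : (a : Γ) ∈ q.ker := by rw [hqk]; exact mem_map_of_mem _ h
        exact MonoidHom.mem_ker.2 (Subtype.ext h')
    have hc : Nat.card (σ.ker ⧸ N) = Nat.card τ.ker := by
      rw [← Subgroup.index_eq_card, ← hπk, Subgroup.index_ker,
        MonoidHom.range_eq_top.2 hπ, Subgroup.card_top]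
    rw [hc]
    exact hodd Δ τ hτ (hc ▸ hcard)
  obtain ⟨t, ht, hgen⟩ : ∃ t : σ.ker, t ^ 3 = 1 ∧ ∀ a, ∃ i : ℤ, (t ^ i)⁻¹ * a ∈ N := by
    rcases (Nat.dvd_prime Nat.prime_three).1 h3 with h | h
    · refine ⟨1, one_pow 3, fun a => ⟨0, ?_⟩⟩
      have := (Nat.card_eq_one_iff_unique.1 h).1
      rw [zpow_zero, inv_one, one_mul, ← QuotientGroup.eq_one_iff]
      exact Subsingleton.elim _ _
    · have : Fact (Nat.Prime 3) := ⟨Nat.prime_three⟩
      have : IsCyclic (σ.ker ⧸ N) := isCyclic_of_prime_card h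
      obtain ⟨g, hg⟩ := IsCyclic.exists_generator (α := σ.ker ⧸ N)
      obtain ⟨b, rfl⟩ := QuotientGroup.mk'_surjective N g
      have hb : QuotientGroup.mk' N b ^ 3 = 1 := by rw [← h, pow_card_eq_one']
      have hb3 : b ^ 3 ∈ N := by
        rw [← QuotientGroup.eq_one_iff]
        exact (map_pow (QuotientGroup.mk' N) b 3).trans hb
      refine ⟨b ^ 4, ?_, fun a => ?_⟩
      · have := hN2 _ hb3
        rw [← pow_mul] at this ⊢
        rw [show 4 * 3 = 3 * 2 * 2 by rfl, pow_mul, this, one_pow]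
      · obtain ⟨i, hi⟩ := mem_zpowers_iff.1 (hg (QuotientGroup.mk' N a))
        refine ⟨i, ?_⟩
        rw [← QuotientGroup.eq_one_iff]
        show QuotientGroup.mk' N ((b ^ 4) ^ i)⁻¹ * QuotientGroup.mk' N a = 1
        rw [map_inv, map_zpow, map_pow, pow_succ, hb, one_mul, hi, inv_mul_cancel]
  refine exists_surjective_three_two_two ht hd he fun a => ?_
  obtain ⟨i, hi⟩ := hgen a
  obtain ⟨j, k, hjk⟩ := mem_closure_pair.1 hi
  exact ⟨i, j, k, by rw [hjk, mul_inv_cancel_left]⟩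

end Cfsg.Agent.H56.EMult
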