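import Cfsg.Prelude.Def_KGroupFacts
import Mathlib.GroupTheory.Transfer
import Mathlib.GroupTheory.Abelianization.Defs

/-!
A stem extension with kernel of exponent two that splits over a subgroup of odd index is trivial.
-/

set_option autoImplicit false

namespace Cfsg.Agent.H56.EMult

open Subgroup
open scoped commutatorElement

universe u v

variable {Γ : Type v} {G : Type u} [Group Γ] [Group G]

/-- A stem extension with kernel of exponent two having a complement to its kernel over a subgroup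
of odd index is trivial. -/
theorem ker_eq_bot_of_complement [Finite Γ] {σ : Γ →* G} (hσ : Cfsg.IsStemExtension σ)
    (h2 : ∀ a ∈ σ.ker, a * a = 1) (P : Subgroup G) (hP : ¬ 2 ∣ P.index) (P0 : Subgroup Γ)
    (hmap : P0.map σ = P) (hdisj : P0 ⊓ σ.ker = ⊥) : σ.ker = ⊥ := by
  obtain ⟨hsurj, hcen, hcomm⟩ := hσ
  let _ : CommGroup σ.ker :=
    { (inferInstance : Group σ.ker) with
      mul_comm := fun a b => Subtype.ext (mem_center_iff.1 (hcen b.2) a.1) }
  have huniq : ∀ p ∈ P0, ∀ q ∈ P0, σ p = σ q → p = q := fun p hp q hq e => by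
    have h : p⁻¹ * q ∈ P0 ⊓ σ.ker :=
      ⟨P0.mul_mem (P0.inv_mem hp) hq, by simp [MonoidHom.mem_ker, e]⟩
    rw [hdisj, mem_bot] at h
    exact inv_mul_eq_one.1 h
  have hex : ∀ r : P.comap σ, ∃ p ∈ P0, σ p = σ r := fun r => by
    exact mem_map.1 ((le_of_eq hmap.symm : P ≤ P0.map σ) r.2)
  choose p hp hpe using hex
  have hk : ∀ r : P.comap σ, (p r)⁻¹ * r.1 ∈ σ.ker := fun r => by
    simp [MonoidHom.mem_ker, hpe]
  let φ : P.comap σ →* σ.ker := MonoidHom.mk' (fun r => ⟨_, hk r⟩) fun r s => by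
    apply Subtype.ext
    have e : p (r * s) = p r * p s := huniq _ (hp _) _ (P0.mul_mem (hp _) (hp _)) (by
      simp [hpe])
    have hc := mem_center_iff.1 (hcen (hk r)) (p s)⁻¹
    show (p (r * s))⁻¹ * (r.1 * s.1) = (p r)⁻¹ * r.1 * ((p s)⁻¹ * s.1)
    rw [e, mul_inv_rev, ← mul_assoc, mul_assoc (p s)⁻¹, hc]
    group
  have hidx : (P.comap σ).index = P.index := index_comap_of_surjective _ hsurj
  have : (P.comap σ).FiniteIndex := inferInstance
  rw [eq_bot_iff]
  intro a ha
  let T := φ.transfer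
  have h1 : T a = 1 := Abelianization.commutator_subset_ker T (hcomm ha)
  have key : ∀ (k : ℕ) (g₀ : Γ), g₀⁻¹ * a ^ k * g₀ ∈ P.comap σ → g₀⁻¹ * a ^ k * g₀ = a ^ k :=
    fun k g₀ _ => by
      rw [mul_assoc, ← mem_center_iff.1 (pow_mem (hcen ha) k) g₀, inv_mul_cancel_left]
  rw [show T a = φ ⟨_, MonoidHom.transfer_eq_pow_aux a key⟩ from
    MonoidHom.transfer_eq_pow φ a key] at h1
  have ha1 : a ^ (P.comap σ).index = a := by
    obtain ⟨m, hm⟩ : ∃ m, P.index = 2 * m + 1 := Nat.odd_iff.2 (by omega)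
    rw [hidx, hm, pow_succ, pow_mul, pow_two, h2 a ha, one_pow, one_mul]
  let r : P.comap σ := ⟨a ^ (P.comap σ).index, MonoidHom.transfer_eq_pow_aux a key⟩
  have hp1 : p r = 1 := huniq _ (hp _) _ P0.one_mem (by
    rw [hpe, map_one, map_pow, MonoidHom.mem_ker.1 ha, one_pow])
  have h1' : (p r)⁻¹ * a ^ (P.comap σ).index = 1 := congrArg Subtype.val h1
  rw [hp1, inv_one, one_mul, ha1] at h1'
  exact mem_bot.2 h1'

end Cfsg.Agent.H56.EMult
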