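import Cfsg.Agent.H27.U6Mult.Witness
import Cfsg.Agent.H56.EMult.Wrap.Reduce

/-!
Two commuting pairs in a subgroup isomorphic to `PSU 6 F 2`, `|F| = 4`: their commutators in a
central extension have sixth power one, and if these vanish and the kernel is elementary abelian of
exponent two then the extension splits over the subgroup.
-/

set_option autoImplicit false

namespace Cfsg.Agent.H56.EMult

open Subgroup
open scoped commutatorElement

universe u v

variable {F : Type} [Field F] [Fintype F] (hF : Fintype.card F = 4)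

/-- Two commuting pairs in `PSU 6 F 2` whose lifts in the glued cover have two different nontrivial
commutators. -/
theorem exists_pairs : ∃ x y : Fin 2 → Cfsg.PSU 6 F 2, (∀ k, Commute (x k) (y k)) ∧
    ∃ a b : Fin 2 → H27.U6Mult.glued hF, (∀ k, H27.U6Mult.gluedHom hF (a k) = x k) ∧
      (∀ k, H27.U6Mult.gluedHom hF (b k) = y k) ∧
      ⁅a 0, b 0⁆ ≠ 1 ∧ ⁅a 1, b 1⁆ ≠ 1 ∧ ⁅a 0, b 0⁆ ≠ ⁅a 1, b 1⁆ := by
  obtain ⟨A, B, A', B', eA, eB, h1, h2⟩ := H27.U6Mult.exists_pair hF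
  obtain ⟨a1, ha1⟩ := H27.U6Mult.glued_fst hF A'
  obtain ⟨b1, hb1⟩ := H27.U6Mult.glued_fst hF B'
  let a : Fin 2 → H27.U6Mult.glued hF := ![⟨(A, A'), eA⟩, a1]
  let b : Fin 2 → H27.U6Mult.glued hF := ![⟨(B, B'), eB⟩, b1]
  refine ⟨fun k => H27.U6Mult.gluedHom hF (a k), fun k => H27.U6Mult.gluedHom hF (b k), fun k => ?_,
    a, b, fun k => rfl, fun k => rfl, ?_, ?_, ?_⟩
  · have h0 : Commute (H27.Fi22U6.proj hF A) (H27.Fi22U6.proj hF B) := by
      rw [← commutatorElement_eq_one_iff_commute, ← map_commutatorElement, h1, map_one]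
    fin_cases k
    · exact h0
    · show Commute (H27.Fi22U6.proj hF a1.1.1) (H27.Fi22U6.proj hF b1.1.1)
      rw [ha1, hb1, ← eA, ← eB]
      exact h0.map (H27.U6Mult.sP hF)
  · exact fun e => h2 (congrArg (fun w : H27.U6Mult.glued hF => w.1.2) e)
  · intro e
    apply h2
    rw [← ha1, ← hb1]
    exact congrArg (fun w : H27.U6Mult.glued hF => w.1.1) e
  · intro e
    apply h2
    rw [← ha1, ← hb1]
    exact (congrArg (fun w : H27.U6Mult.glued hF => w.1.1) e).symm.trans h1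

/-- The first elements of the witness pairs. -/
noncomputable def pairX : Fin 2 → Cfsg.PSU 6 F 2 := (exists_pairs hF).choose

/-- The second elements of the witness pairs. -/
noncomputable def pairY : Fin 2 → Cfsg.PSU 6 F 2 := (exists_pairs hF).choose_spec.choose

theorem commute_pair (k : Fin 2) : Commute (pairX hF k) (pairY hF k) :=
  (exists_pairs hF).choose_spec.choose_spec.1 k

/-- Lifts of the pairs in the glued cover have two different nontrivial commutators. -/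
theorem exists_glued_lifts : ∃ a b : Fin 2 → H27.U6Mult.glued hF,
    (∀ k, H27.U6Mult.gluedHom hF (a k) = pairX hF k) ∧
    (∀ k, H27.U6Mult.gluedHom hF (b k) = pairY hF k) ∧
    ⁅a 0, b 0⁆ ≠ 1 ∧ ⁅a 1, b 1⁆ ≠ 1 ∧ ⁅a 0, b 0⁆ ≠ ⁅a 1, b 1⁆ :=
  (exists_pairs hF).choose_spec.choose_spec.2

section
include hF

/-- The kernel of a stem extension of `PSU 6 F 2` in any universe is an image of `3 × 2 × 2`. -/
theorem exists_surjection_psu {Δ : Type v} [Group Δ] [Finite Δ] {τ : Δ →* Cfsg.PSU 6 F 2}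
    (hτ : Cfsg.IsStemExtension τ) :
    ∃ f : Multiplicative (ZMod 3 × ZMod 2 × ZMod 2) →* τ.ker, Function.Surjective f := by
  obtain ⟨Δ', _, _, τ', hτ', ⟨e⟩⟩ := H74.Schur.exists_stem_small hτ
  obtain ⟨f, hf⟩ := H27.U6Mult.exists_surjection hF τ' hτ'
  exact ⟨e.symm.toMonoidHom.comp f, e.symm.surjective.comp hf⟩

theorem psu_ker_pow_six {Δ : Type v} [Group Δ] [Finite Δ] {τ : Δ →* Cfsg.PSU 6 F 2}
    (hτ : Cfsg.IsStemExtension τ) {a : Δ} (ha : a ∈ τ.ker) : a ^ 6 = 1 := by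
  obtain ⟨f, hf⟩ := exists_surjection_psu hF hτ
  obtain ⟨x, hx⟩ := hf ⟨a, ha⟩
  have h : ∀ x : Multiplicative (ZMod 3 × ZMod 2 × ZMod 2), x ^ 6 = 1 := by decide
  have h' := congrArg (fun z => z ^ 6) hx
  simp only [← map_pow, h, map_one] at h'
  exact (congrArg Subtype.val h').symm

theorem psu_card_ker_dvd_four {Δ : Type v} [Group Δ] [Finite Δ] {τ : Δ →* Cfsg.PSU 6 F 2}
    (hτ : Cfsg.IsStemExtension τ) (h2 : ∀ a ∈ τ.ker, a * a = 1) : Nat.card τ.ker ∣ 4 := by
  obtain ⟨f, hf⟩ := exists_surjection_psu hF hτ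
  have h12 : Nat.card τ.ker ∣ 3 * 4 := by
    refine (Subgroup.card_dvd_of_surjective f hf).trans ?_
    simp
  refine (Nat.Coprime.dvd_mul_left ?_).1 h12
  rw [Nat.coprime_comm, Nat.prime_three.coprime_iff_not_dvd]
  intro h
  have : Fact (Nat.Prime 3) := ⟨Nat.prime_three⟩
  obtain ⟨z, hz⟩ := exists_prime_orderOf_dvd_card' 3 h
  have hz2 : orderOf z ∣ 2 :=
    orderOf_dvd_of_pow_eq_one (by rw [pow_two]; exact Subtype.ext (h2 z z.2))
  rw [hz] at hz2
  exact absurd (Nat.le_of_dvd (by norm_num) hz2) (by norm_num)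

set_option maxHeartbeats 1000000 in
/-- A stem extension of `PSU 6 F 2` with kernel of exponent two on which the commutators of the two
pairs vanish is trivial. -/
theorem psu_ker_eq_bot {Δ : Type v} [Group Δ] [Finite Δ] {τ : Δ →* Cfsg.PSU 6 F 2}
    (hτ : Cfsg.IsStemExtension τ) (h2 : ∀ a ∈ τ.ker, a * a = 1)
    (hc : ∀ k X Y, τ X = pairX hF k → τ Y = pairY hF k → ⁅X, Y⁆ = 1) : τ.ker = ⊥ := by
  have : Finite H27.Fi22U6.H :=
    Nat.finite_of_card_ne_zero (by rw [H27.Fi22U6.card_H]; norm_num)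
  obtain ⟨a, b, ha, hb, n0, n1, n01⟩ := exists_glued_lifts hF
  let gh := H27.U6Mult.gluedHom hF
  have hg := H27.U6Mult.glued_stem hF
  let W := H50.pull τ gh
  let fW : W →* Δ := (MonoidHom.fst Δ _).comp W.subtype
  have hfW : Function.Surjective fW := fun d =>
    ⟨⟨(d, (hg.1 (τ d)).choose), (hg.1 (τ d)).choose_spec.symm⟩, rfl⟩
  let π : W →* Cfsg.PSU 6 F 2 := τ.comp fW
  have hπ : Function.Surjective π := hτ.1.comp hfW
  have hcomp : ∀ w ∈ π.ker, w.1.1 ∈ τ.ker ∧ w.1.2 ∈ gh.ker := fun w hw => by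
    refine ⟨hw, ?_⟩
    rw [MonoidHom.mem_ker, ← H50.mem_pull.1 w.2]
    exact hw
  have hπc : π.ker ≤ center W := fun w hw => by
    rw [mem_center_iff]
    exact fun z => Subtype.ext (Prod.ext (mem_center_iff.1 (hτ.2.1 (hcomp w hw).1) z.1.1)
      (mem_center_iff.1 (hg.2.1 (hcomp w hw).2) z.1.2))
  have hperf : Group.IsPerfect (Cfsg.PSU 6 F 2) :=
    H74.Schur.isPerfect_iff.2 (H27.U6Mult.psu_perfect hF)
  obtain ⟨hmap, hW⟩ := H74.Schur.commutator_perfect hπ hπc hperf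
  let ρ : _root_.commutator W →* Cfsg.PSU 6 F 2 := π.comp (_root_.commutator W).subtype
  have hρ : Cfsg.IsStemExtension ρ := by
    refine ⟨fun p => ?_, fun w hw => ?_, ?_⟩
    · obtain ⟨w, hw, e⟩ := (hmap ▸ mem_top p : p ∈ (_root_.commutator W).map π)
      exact ⟨⟨w, hw⟩, e⟩
    · rw [mem_center_iff]
      exact fun z => Subtype.ext (mem_center_iff.1 (hπc (x := w.1) hw) z.1)
    · rw [H74.Schur.isPerfect_iff.1 hW]
      exact le_top
  have hgk : ∀ z ∈ gh.ker, z * z = 1 := fun z hz => by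
    have hk : ∀ t : (H27.Fi22U6.proj hF).ker, t * t = 1 := fun t => by
      have h := pow_card_eq_one' (x := t)
      rwa [H27.Fi22U6.card_ker hF, pow_two] at h
    exact Subtype.ext (Prod.ext (congrArg Subtype.val (hk (H27.U6Mult.gluedKer hF ⟨z, hz⟩).1))
      (congrArg Subtype.val (hk (H27.U6Mult.gluedKer hF ⟨z, hz⟩).2)))
  have hρ4 : Nat.card ρ.ker ∣ 4 := psu_card_ker_dvd_four hF hρ fun w hw => by
    obtain ⟨e1, e2⟩ := hcomp w.1 hw
    exact Subtype.ext (Subtype.ext (Prod.ext (h2 _ e1) (hgk _ e2)))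
  choose X hX using fun k => hτ.1 (pairX hF k)
  choose Y hY using fun k => hτ.1 (pairY hF k)
  let A : Fin 2 → W := fun k => ⟨(X k, a k), (hX k).trans (ha k).symm⟩
  let B : Fin 2 → W := fun k => ⟨(Y k, b k), (hY k).trans (hb k).symm⟩
  let c : Fin 2 → _root_.commutator W := fun k => ⟨⁅A k, B k⁆,
    commutator_mem_commutator (mem_top (A k)) (mem_top (B k))⟩
  have hc1 : ∀ k, fW (c k).1 = 1 := fun k => hc k _ _ (hX k) (hY k)
  have hcs : ∀ k, (c k).1.1.2 = ⁅a k, b k⁆ := fun k => rfl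
  have hck : ∀ k, c k ∈ ρ.ker := fun k => by
    show τ (fW (c k).1) = 1
    rw [hc1, map_one]
  let T : Subgroup ρ.ker := ((fW.comp (_root_.commutator W).subtype).comp ρ.ker.subtype).ker
  let t : Fin 2 → T := fun k => ⟨⟨c k, hck k⟩, hc1 k⟩
  have : Fintype T := Fintype.ofFinite T
  have hT3 : 2 < Nat.card T := by
    rw [Nat.card_eq_fintype_card, Fintype.two_lt_card_iff]
    refine ⟨1, t 0, t 1, fun e => n0 ?_, fun e => n1 ?_, fun e => n01 ?_⟩
    · exact (congrArg (fun w : T => w.1.1.1.1.2) e).symm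
    · exact (congrArg (fun w : T => w.1.1.1.1.2) e).symm
    · exact congrArg (fun w : T => w.1.1.1.1.2) e
  have hTd : Nat.card T ∣ Nat.card ρ.ker := Subgroup.card_subgroup_dvd_card T
  have hρ4' : Nat.card ρ.ker ≤ 4 := Nat.le_of_dvd (by norm_num) hρ4
  have hT4 : Nat.card T = 4 := by
    have h4 : ∀ n : ℕ, n ∣ 4 → 2 < n → n = 4 := fun n hn h => by
      have := Nat.le_of_dvd (by norm_num) hn
      interval_cases n <;> omega
    exact h4 _ (hTd.trans hρ4) hT3
  have hTtop : T = ⊤ := Subgroup.eq_top_of_card_eq _ (le_antisymm (Nat.le_of_dvd Nat.card_pos hTd)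
    (hT4 ▸ hρ4'))
  rw [eq_bot_iff]
  intro d hd
  have hd' : d ∈ (_root_.commutator W).map fW := by
    rw [H74.Schur.map_commutator_of_surjective _ hfW]
    exact hτ.2.2 hd
  obtain ⟨w, hw, rfl⟩ := hd'
  have hmem : (⟨⟨w, hw⟩, hd⟩ : ρ.ker) ∈ T := hTtop ▸ mem_top _
  exact mem_bot.2 hmem

end

/-! ### A subgroup isomorphic to `PSU 6 F 2` -/

variable {G : Type u} [Group G] {L : Subgroup G} (e : ↥L ≃* Cfsg.PSU 6 F 2)

/-- The first witnesses. -/
noncomputable def wx (k : Fin 2) : G := (e.symm (pairX hF k) : ↥L)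

/-- The second witnesses. -/
noncomputable def wy (k : Fin 2) : G := (e.symm (pairY hF k) : ↥L)

theorem wx_mem (k : Fin 2) : wx hF e k ∈ L := (e.symm (pairX hF k)).2

theorem wy_mem (k : Fin 2) : wy hF e k ∈ L := (e.symm (pairY hF k)).2

theorem commute_wit (k : Fin 2) : Commute (wx hF e k) (wy hF e k) :=
  ((commute_pair hF k).map e.symm).map L.subtype

include hF in
/-- The derived subgroup of the preimage is a stem extension of `PSU 6 F 2`. -/
theorem exists_levi_stem {Γ : Type v} [Group Γ] [Finite Γ] {σ : Γ →* G}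
    (hσ : Function.Surjective σ) (hc : σ.ker ≤ center Γ) :
    ∃ τ : _root_.commutator ↥(L.comap σ) →* Cfsg.PSU 6 F 2, Cfsg.IsStemExtension τ ∧
      ∀ d : _root_.commutator ↥(L.comap σ), σ d.1.1 = (e.symm (τ d) : ↥L) := by
  let ζ : ↥(L.comap σ) →* Cfsg.PSU 6 F 2 := e.toMonoidHom.comp (σ.subgroupComap L)
  have hζ : Function.Surjective ζ := e.surjective.comp fun l => by
    obtain ⟨g, hg⟩ := hσ l.1
    exact ⟨⟨g, by rw [mem_comap, hg]; exact l.2⟩, Subtype.ext hg⟩
  have hζc : ζ.ker ≤ center ↥(L.comap σ) := fun z hz => by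
    have h : σ.subgroupComap L z = 1 := e.map_eq_one_iff.1 hz
    rw [mem_center_iff]
    exact fun g => Subtype.ext (mem_center_iff.1 (hc (congrArg Subtype.val h)) g.1)
  have hperf : Group.IsPerfect (Cfsg.PSU 6 F 2) :=
    H74.Schur.isPerfect_iff.2 (H27.U6Mult.psu_perfect hF)
  obtain ⟨hmap, hD⟩ := H74.Schur.commutator_perfect hζ hζc hperf
  refine ⟨ζ.comp (_root_.commutator ↥(L.comap σ)).subtype, ⟨fun p => ?_, fun w hw => ?_, ?_⟩,
    fun d => ?_⟩
  · obtain ⟨w, hw, h⟩ := (hmap ▸ mem_top p : p ∈ (_root_.commutator ↥(L.comap σ)).map ζ)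
    exact ⟨⟨w, hw⟩, h⟩
  · rw [mem_center_iff]
    exact fun z => Subtype.ext (mem_center_iff.1 (hζc (x := w.1) hw) z.1)
  · rw [H74.Schur.isPerfect_iff.1 hD]
    exact le_top
  · show _ = ((e.symm (e _) : ↥L) : G)
    rw [MulEquiv.symm_apply_apply]
    rfl

/-- The commutators of lifts of the witnesses have sixth power one. -/
theorem comm_pow_six {Γ : Type v} [Group Γ] [Finite Γ] {σ : Γ →* G}
    (hσ : Function.Surjective σ) (hc : σ.ker ≤ center Γ) (k : Fin 2) (X Y : Γ)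
    (hX : σ X = wx hF e k) (hY : σ Y = wy hF e k) : ⁅X, Y⁆ ^ 6 = 1 := by
  obtain ⟨τ, hτ, hτσ⟩ := exists_levi_stem hF e hσ hc
  obtain ⟨X', hX'⟩ := hτ.1 (pairX hF k)
  obtain ⟨Y', hY'⟩ := hτ.1 (pairY hF k)
  have h6 : ⁅X', Y'⁆ ^ 6 = 1 := psu_ker_pow_six hF hτ (by
    rw [MonoidHom.mem_ker, map_commutatorElement, hX', hY', commutatorElement_eq_one_iff_commute]
    exact commute_pair hF k)
  rw [commutator_lifts_eq hc (X := ((X' : ↥(L.comap σ)) : Γ)) (Y := ((Y' : ↥(L.comap σ)) : Γ))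
    (by rw [hX, hτσ, hX']; rfl) (by rw [hY, hτσ, hY']; rfl)]
  exact congrArg (fun d : _root_.commutator ↥(L.comap σ) => ((d : ↥(L.comap σ)) : Γ)) h6

/-- A central extension with kernel of exponent two, on which the commutators of the witnesses
vanish, splits over the subgroup. -/
theorem levi_split {Γ : Type v} [Group Γ] [Finite Γ] {σ : Γ →* G}
    (hσ : Function.Surjective σ) (hc : σ.ker ≤ center Γ) (h2 : ∀ a ∈ σ.ker, a * a = 1)
    (hw : ∀ k X Y, σ X = wx hF e k → σ Y = wy hF e k → ⁅X, Y⁆ = 1) :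
    (⁅L.comap σ, L.comap σ⁆).map σ = L ∧ ∀ x ∈ ⁅L.comap σ, L.comap σ⁆, σ x = 1 → x = 1 := by
  refine ⟨?_, ?_⟩
  · have hL : _root_.commutator ↥L = ⊤ := by
      rw [← H74.Schur.map_commutator_of_surjective e.symm.toMonoidHom e.symm.surjective,
        H27.U6Mult.psu_perfect hF, Subgroup.map_top_of_surjective _ e.symm.surjective]
    rw [Subgroup.map_commutator, Subgroup.map_comap_eq_self_of_surjective hσ,
      ← Subgroup.map_subtype_commutator, hL, ← MonoidHom.range_eq_map, Subgroup.range_subtype]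
  obtain ⟨τ, hτ, hτσ⟩ := exists_levi_stem hF e hσ hc
  have hbot : τ.ker = ⊥ := psu_ker_eq_bot hF hτ (fun d hd => ?_) fun k X Y hX hY => ?_
  · intro x hx h1
    rw [← Subgroup.map_subtype_commutator] at hx
    obtain ⟨d, hd, rfl⟩ := hx
    have : (⟨d, hd⟩ : _root_.commutator ↥(L.comap σ)) ∈ τ.ker := by
      have h : ((e.symm (τ ⟨d, hd⟩) : ↥L) : G) = 1 := (hτσ ⟨d, hd⟩).symm.trans h1
      exact MonoidHom.mem_ker.2 (e.symm.map_eq_one_iff.1 (Subtype.ext h))
    rw [hbot, mem_bot] at this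
    exact congrArg (fun z : _root_.commutator ↥(L.comap σ) => ((z : ↥(L.comap σ)) : Γ)) this
  · apply Subtype.ext
    apply Subtype.ext
    refine h2 _ ?_
    rw [MonoidHom.mem_ker, hτσ, MonoidHom.mem_ker.1 hd, map_one]
    rfl
  · apply Subtype.ext
    apply Subtype.ext
    exact hw k _ _ (by rw [hτσ, hX]; rfl) (by rw [hτσ, hY]; rfl)

end Cfsg.Agent.H56.EMult
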